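import Groth.Agent.L05.ExcCurve.Main
import Groth.Agent.L05.InterPair.Form
import Groth.Agent.L05.SectionFibre.Constants
import Groth.Agent.L22.DimZero

/-!
Two curves on a surface meeting with intersection number one.
-/

set_option autoImplicit false
set_option backward.isDefEq.respectTransparency false
set_option linter.style.haveILetI false
set_option linter.unusedSectionVars false
universe u

open CategoryTheory CategoryTheory.Limits AlgebraicGeometry TopologicalSpace

noncomputable section

namespace Groth.L05.ProjLines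

open Groth.L05.InterPair Groth.L05.FibreDecomp

/-- On an integral curve the points other than the generic point are closed. -/
theorem isClosed_of_ne_generic {Y : Scheme.{u}} [IsIntegral Y] (hd : topologicalKrullDim Y ≤ 1) {y : Y}
    (hy : y ≠ genericPoint Y) : IsClosed ({y} : Set Y) := by
  rw [← closure_eq_iff_isClosed]
  refine Set.Subset.antisymm ?_ subset_closure
  intro z hz
  by_contra hne
  let mk : Y → IrreducibleCloseds Y := fun a => ⟨closure {a}, isIrreducible_singleton.closure, isClosed_closure⟩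
  have hle : ∀ {a b : Y}, mk a ≤ mk b ↔ b ⤳ a := fun {a b} => specializes_iff_closure_subset.symm
  have hlt : ∀ {a b : Y}, b ⤳ a → a ≠ b → mk a < mk b := fun {a b} h hne =>
    lt_of_le_not_ge (hle.2 h) fun h' => hne ((hle.1 h').antisymm h).eq
  have h2 := Order.LTSeries.length_le_krullDim (LTSeries.mk 2 ![mk z, mk y, mk (genericPoint Y)]
    (Fin.strictMono_iff_lt_succ.2 fun i => by
      fin_cases i
      · exact hlt (specializes_iff_mem_closure.2 hz) hne
      · exact hlt (genericPoint_specializes y) hy))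
  exact absurd ((show ((2 : ℕ) : WithBot ℕ∞) ≤ topologicalKrullDim Y from h2).trans hd) (by norm_num)

variable {R : Type u} [CommRing R] [IsDomain R] [IsDiscreteValuationRing R]
  {X : Over (Spec (CommRingCat.of R))} [IsProper X.hom] [IsLocallyNoetherian X.left]

local notation "κ" => IsLocalRing.ResidueField R

/-- An intersection of length one is a reduced rational point. -/
theorem point_of_length_one (Γ Γ' : ArSurf.VertComp R X)
    (hgen : Models.genPtOf R X Γ ∉ (Γ'.ι.ker.support : Set X.left))
    (h : Module.finrank κ (Coh.HH Γ.curve.left (ClSub.quotMod (Γ'.ι.ker.comap Γ.ι)) 0) = 1) :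
    ∃ x : X.left, Set.range (Γ.ι.base : Γ.curve.left → X.left) ∩ Set.range (Γ'.ι.base : Γ'.curve.left → X.left) = {x} ∧
      Γ.ι.ker ⊔ Γ'.ι.ker = Scheme.IdealSheafData.vanishingIdeal ⟨closure {x}, isClosed_closure⟩ ∧
      Function.Surjective ((X.left.residue x).hom.comp (Models.stalkHom R X x)) := by
  haveI := isProper_curve Γ
  set E := Γ'.ι.ker.comap Γ.ι
  letI : E.subscheme.Over (Spec (CommRingCat.of κ)) := ⟨E.subschemeι ≫ Γ.curve.hom⟩
  let s := E.subschemeι ≫ (Γ.curve.left ↘ Spec (CommRingCat.of κ))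
  haveI : IsProper s := inferInstance
  -- finitely many closed points
  have hnot : genericPoint Γ.curve.left ∉ (E.support : Set Γ.curve.left) := by
    rw [Scheme.IdealSheafData.support_comap]; exact hgen
  have hcl : ∀ e : E.subscheme, IsClosed ({e} : Set E.subscheme) := fun e => by
    have hne : E.subschemeι e ≠ genericPoint Γ.curve.left := fun h' => hnot (by
      rw [← E.range_subschemeι]; exact ⟨e, h'⟩)
    have h1 := (isClosed_of_ne_generic Γ.dim_eq.le hne).preimage E.subschemeι.continuous
    convert! h1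
    ext e'
    exact ⟨fun h => congrArg _ h, fun h => E.subschemeι.isClosedEmbedding.injective h⟩
  have hdim : topologicalKrullDim E.subscheme ≤ 0 := by
    refine Order.krullDim_nonpos_iff_forall_isMax.2 fun A B hAB => ?_
    obtain ⟨b, hb⟩ := QuasiSober.sober B.isIrreducible B.isClosed
    obtain ⟨a, ha⟩ := A.isIrreducible.1
    have hB : (B : Set E.subscheme) = {b} := hb.def.symm.trans (hcl b).closure_eq
    intro c hc
    have h1 := hAB ha
    rw [← SetLike.mem_coe, hB] at h1
    have hc' : c = b := by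
      have h2 : c ∈ (B : Set E.subscheme) := hc
      rw [hB] at h2
      exact h2
    exact hc'.trans h1.symm ▸ ha
  haveI := Groth.L22.DimZero.isArtinianScheme_of_dim_le_zero κ s hdim
  haveI : IsAffine E.subscheme := (Groth.L22.DimZero.isFinite_of_isArtinian κ s).1
  -- its functions are the scalars
  haveI : IsLocallyNoetherian E.subscheme := LocallyOfFiniteType.isLocallyNoetherian s
  obtain ⟨φ⟩ := exists_HH_quot_equiv Γ E
  have h1 : Module.finrank κ (Coh.HH E.subscheme (Coh.structureModule E.subscheme) 0) = 1 := φ.finrank_eq.trans h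
  let g := Coh.toGlobal (E.subschemeι ≫ Γ.curve.hom)
  have hg : Function.Bijective g := by
    letI : Algebra κ Γ(E.subscheme, ⊤) := g.toAlgebra
    let hT : IsTerminal (⊤ : TopologicalSpace.Opens E.subscheme) :=
      IsTerminal.ofUniqueHom (fun U => homOfLE le_top) (fun _ _ => rfl)
    let F := Coh.toAb (Coh.structureModule E.subscheme)
    let e : Coh.HH E.subscheme (Coh.structureModule E.subscheme) 0 ≃+ Γ(E.subscheme, ⊤) := Sheaf.H.equiv₀ F hT
    have he : ∀ (c : κ) x, e (c • x) = c • e x := fun c x => by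
      show _ = (show Γ(E.subscheme, ⊤) from g c) * e x
      show Sheaf.H.equiv₀ F hT (Sheaf.H.map (Coh.smulAb (Coh.structureModule E.subscheme) _) 0 x) = _
      rw [← Sheaf.H.equiv₀_naturality]
      refine (Coh.smulAb_app (Coh.structureModule E.subscheme) _ (Opposite.op ⊤) _).trans ?_
      show Coh.resTop E.subscheme (Opposite.op ⊤) _ * _ = _
      congr 1
      simp [Coh.resTop, g]
      rfl
    let el : Coh.HH E.subscheme (Coh.structureModule E.subscheme) 0 ≃ₗ[κ] Γ(E.subscheme, ⊤) :=
      { e with map_smul' := he }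
    have h2 : Module.finrank κ Γ(E.subscheme, ⊤) = 1 := el.finrank_eq.symm.trans h1
    haveI : Nontrivial Γ(E.subscheme, ⊤) := Module.nontrivial_of_finrank_eq_succ h2
    refine ⟨(algebraMap κ Γ(E.subscheme, ⊤)).injective, fun y => ?_⟩
    obtain ⟨c, hc⟩ := exists_smul_eq_of_finrank_eq_one h2 (one_ne_zero (α := Γ(E.subscheme, ⊤))) y
    exact ⟨c, by rw [← hc, Algebra.smul_def, mul_one]; rfl⟩
  have hFld : IsField Γ(E.subscheme, ⊤) :=
    MulEquiv.isField (Field.toIsField κ) (RingEquiv.ofBijective g hg).toMulEquiv.symm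
  letI : Field Γ(E.subscheme, ⊤) := hFld.toField
  let eS : E.subscheme ≅ Spec Γ(E.subscheme, ⊤) := E.subscheme.isoSpec
  haveI hsub : Subsingleton E.subscheme :=
    haveI : Subsingleton (Spec Γ(E.subscheme, ⊤)) := inferInstanceAs (Subsingleton (PrimeSpectrum Γ(E.subscheme, ⊤)))
    eS.hom.homeomorph.injective.subsingleton
  haveI : IsReduced (Spec Γ(E.subscheme, ⊤)) := inferInstance
  haveI : IsReduced E.subscheme := isReduced_of_isOpenImmersion eS.hom
  haveI : Nonempty E.subscheme :=
    ⟨eS.inv (⟨⊥, Ideal.isPrime_bot⟩ : PrimeSpectrum Γ(E.subscheme, ⊤))⟩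
  let y₀ : E.subscheme := Classical.arbitrary _
  let a := E.subschemeι ≫ Γ.ι
  have hrange : Set.range (a.base : E.subscheme → X.left) =
      Set.range (Γ.ι.base : Γ.curve.left → X.left) ∩ Set.range (Γ'.ι.base : Γ'.curve.left → X.left) := by
    rw [← support_ker Γ', Set.inter_comm, ← Set.image_preimage_eq_inter_range]
    show Set.range (Γ.ι.base ∘ E.subschemeι.base) = _
    rw [Set.range_comp, E.range_subschemeι, Scheme.IdealSheafData.support_comap]
    rfl
  have hx : Set.range (a.base : E.subscheme → X.left) = {a y₀} := by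
    ext z
    exact ⟨fun ⟨e, he⟩ => he ▸ congrArg a.base (Subsingleton.elim e y₀), fun hz => ⟨y₀, hz.symm⟩⟩
  refine ⟨a y₀, hrange.symm.trans hx, ?_, ?_⟩
  · have hk : Γ.ι.ker ⊔ Γ'.ι.ker = a.ker := by
      rw [← map_comap_closed Γ.ι Γ'.ι.ker]
      rfl
    have hrad : a.ker.radical = a.ker := by
      refine le_antisymm (fun U b hb => ?_) a.ker.le_radical
      rw [Scheme.IdealSheafData.radical_ideal] at hb
      obtain ⟨m, hm⟩ := hb
      rw [Scheme.Hom.ker_apply, RingHom.mem_ker] at hm ⊢
      rw [map_pow] at hm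
      exact IsReduced.eq_zero _ ⟨m, hm⟩
    rw [hk, ← hrad, ← Scheme.IdealSheafData.vanishingIdeal_support]
    congr 1
    refine SetLike.ext' ?_
    show (a.ker.support : Set X.left) = closure {a y₀}
    rw [Scheme.Hom.support_ker]
    exact congrArg closure hx
  · intro w
    let ψ : X.left.residueField (a y₀) →+* E.subscheme.residueField y₀ := (a.residueFieldMap y₀).hom
    obtain ⟨v, hv⟩ := IsLocalRing.residue_surjective (R := E.subscheme.presheaf.stalk y₀) (ψ w)
    letI : Algebra Γ(E.subscheme, ⊤) (E.subscheme.presheaf.stalk y₀) :=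
      (E.subscheme.presheaf.germ ⊤ y₀ trivial).hom.toAlgebra
    haveI : IsLocalization.AtPrime (E.subscheme.presheaf.stalk y₀)
        ((isAffineOpen_top E.subscheme).primeIdealOf ⟨y₀, trivial⟩).asIdeal :=
      (isAffineOpen_top E.subscheme).isLocalization_stalk ⟨y₀, trivial⟩
    obtain ⟨⟨b, t, ht⟩, hbt⟩ := IsLocalization.surj
      ((isAffineOpen_top E.subscheme).primeIdealOf ⟨y₀, trivial⟩).asIdeal.primeCompl v
    have ht0 : t ≠ 0 := fun h0 => ht (h0 ▸ Submodule.zero_mem _)
    obtain ⟨c, hc⟩ := hg.2 (b * t⁻¹)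
    obtain ⟨r, rfl⟩ := IsLocalRing.residue_surjective c
    refine ⟨r, ψ.injective ?_⟩
    show ψ (X.left.residue (a y₀) (Models.stalkHom R X (a y₀) r)) = ψ w
    rw [← hv]
    refine (congr($(Scheme.residue_residueFieldMap a y₀) (Models.stalkHom R X (a y₀) r))).trans ?_
    refine congrArg (E.subscheme.residue y₀) ?_
    refine (Scheme.Hom.germ_stalkMap_apply a ⊤ y₀ trivial (Coh.toGlobal X.hom r)).trans ?_
    show E.subscheme.presheaf.germ ⊤ y₀ trivial (Coh.toGlobal (a ≫ X.hom) r) = v
    have h0 : Coh.toGlobal (a ≫ X.hom) r = g (IsLocalRing.residue R r) := by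
      rw [show a ≫ X.hom = E.subschemeι ≫ Γ.curve.hom ≫ Spec.map (CommRingCat.ofHom (IsLocalRing.residue R)) by
        simp only [a, Category.assoc, Γ.w]]
      simp only [g, Coh.toGlobal, Scheme.Hom.comp_appTop, CommRingCat.hom_comp, RingHom.comp_apply]
      exact congrArg (fun q => E.subschemeι.appTop (Γ.curve.hom.appTop q))
        congr($(Scheme.ΓSpecIso_inv_naturality (CommRingCat.ofHom (IsLocalRing.residue R))) r).symm
    rw [h0, hc]
    have hu : IsUnit (E.subscheme.presheaf.germ ⊤ y₀ trivial t) :=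
      (Ne.isUnit ht0).map (E.subscheme.presheaf.germ ⊤ y₀ trivial).hom
    refine hu.mul_left_injective ?_
    show E.subscheme.presheaf.germ ⊤ y₀ trivial (b * t⁻¹) * E.subscheme.presheaf.germ ⊤ y₀ trivial t =
      v * E.subscheme.presheaf.germ ⊤ y₀ trivial t
    rw [← map_mul, inv_mul_cancel_right₀ ht0]
    exact hbt.symm

/-- A curve of genus zero with constants `κ` and a module of degree one is a projective line. -/
theorem iso_projLine (Γ : ArSurf.VertComp R X) {N : Γ.curve.left.Modules} (hN : PicF.IsInvertible N)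
    (hw : Models.wdeg R X Γ = 1) (h1 : Models.h1 R X Γ = 0)
    (hdeg : ArSurf.curveDeg κ Γ.curve.left N = 1) :
    ∃ e : Γ.curve.left ≅ CohB1.ProjSpace 1 κ, e.hom ≫ CohB1.ProjSpace.toSpec 1 κ = Γ.curve.hom := by
  haveI := isProper_curve Γ
  haveI := Groth.L21.RR.isNoetherian_of_proper (X := Γ.curve.left) κ
  haveI := Groth.L21.RR.finite_HH' (k := κ) (Groth.L16.CohClosedPush.isCoh_structure (X := Γ.curve.left)) 1
  haveI hs : Subsingleton (Coh.HH Γ.curve.left (Coh.structureModule Γ.curve.left) 1) :=
    Module.finrank_zero_iff.1 h1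
  have hdeg' : Curv2.deg κ Γ.curve.left N 1 = 1 := by
    rw [curveDeg_eq_euler κ Γ.dim_eq] at hdeg
    rw [Curv2.deg, Nat.cast_one, one_mul]
    exact hdeg
  obtain ⟨e, he, -⟩ := Groth.L21.RR.exists_iso_projLine κ Γ.dim_eq hs hN hdeg'
  exact ⟨e, he⟩

end Groth.L05.ProjLines
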